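import Cfsg.Agent.TwoF.XL.U33.Grp
import Cfsg.Agent.TwoF.Gen.ACD

/-!
# TwoF, `U₃(3)` in characteristic 2 (helper76): an irreducible module with a quadratic four-group has dimension `≤ 10`

The orbit of a vector fixed by `H` has at most 189 points; the quadratic relations express all of them by ten.
-/

set_option autoImplicit false

namespace Cfsg.Agent.TwoF.XL.U33

open Cfsg.Agent.Classification.RTwo.UThreeThree Cfsg.Agent.TwoF.Gen Module

/-- the codes of 189 coset representatives of `H` -/
def RN : ℕ :=
  0x291990d07b35e57159a2bda14e6de7b1525f0b116592fce1308e86312559b041294ad3a13c7ec570167818f01a693c50d7963290c0b798208ed12fb0b39205412a5f85f04abbc010718391e0a7e8133107d6f970d51356d166e8a5806c68515156aefbe124c893711b991fb14b0ea630398477e099782c503477a1e0cf7c6450fd3330f123cfc3105b31092088bc9610d2afec70b27838a0a0716a90c2b7ef612729bcb0435b2930629733a0a6d61b51149f67f0d84901b157c29d0073c8c9d164ee3d0129aebb3109f8c6714c207fb04870b7c08caf9f70322881a0d1ae911103e6aab1219d77f05d800b008208fdf0ebbf23b0abfe54e0957639d0ae8ee4f13be2e6a03cb605c059046af0a6712c5101b385e0db8d21414dd954f0776368c1536ac3012eb1c23117fe67714cdbe3f036a528f0843d2a0047636aa0cfe13a0106c5e0512314458063a365409a880b90dc992550af3409e09cd6bc70a9a8a8f12da3914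04e564ac05fb7eed0a8a36330ff646fc0e9cc6c8152bf86d065c319a1503503e13dd7b671109ddab14aa9a2f02ff19af0868c36003a9ae7e0d0f31da115b22a51220257c0706bdde08b9bb7704115ea80d76e20411c2d2cf06a881af0b3738f510a349be05a7014a04812c7301ad8eb7166e09c704c289470a2c32f81247d43c072e6c9e08e16a37062784430351328c022b5db508222d4f1061dbd4026d076c09abcf52103b00f7016b3a24050af3340ebb3f5b1196ac25077fd9250ae6213a10e50f9e061ed6c60300703f026d790314d8946403bff17f09bf2cc612ea02bf066017200938cfef05f7c2f50489d94e016b72c708b8a53d10257d48022b40ea0837b05c1155054701ad0004098c404e09af172a0992286909a32d530346a10f036977eb034c892a035d8e1415aaba6a058e772505b14e0105945f4005a5642a1063c84210869f1e1069b05d107ab5470c8b42bf1362d33e0ed318d5003510ba00156dfe000eec1d001ff1070d0400af0cfafe150d19a0870d109ded0290f0e3000902a3021fdbed0227de3d001051d4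

/-- permutation of the cosets -/
def PY : ℕ :=
  0x22502e00b33db93b35022643345e25590b899c5c150f75a27a30326a8e128c4f3a48a8499919673e97442728709f413f20956e232f6518ae7b910a611460a3542d240e5a932b732c7c1f886b0c9b3c4e864d4caca747460d8d668037389d096d39824221513357b01a927713295f5d71a1bcb5986f9663b2783179a0b7648b408a4aaaa97f81b4365556a5b17e722a74a652babb8353458584ab4bad9e76061b1e037d946c04109a62588f170768a48790695baf01161c08111db805b6

/-- the elements of `H` needed to check it -/
def SY : ℕ :=
  0xe111119110e1e0b04110b04061b0a0408000e0a0e0901051e1c1f0f0b0f1100081514170b0b0f0d1405191a1b1112100a0e0a0f031e0c0004050d01040004110008030b0f1514170505010e020a0f031e191a1b1e1f1c060a0e1112100f070b0a1b060d14050501010400000a1a180800040e060a050d141f1f1d031e0f1300101516150008110013100f0b031615150d05140e0a060f1f1d1a1a180e010c13150e050f081d140a00040b12010d0702060c09030a0007091a0d101912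

/-- permutation of the cosets -/
def PY' : ℕ :=
  0x57513a5f43651d1561554c0e621c8f3b95932f2e2d5d8a1890914d84868588521f9744981356ad63a20f9a581646a7a59d9c3db04faf343335a8aaa9090a003f404129276f39424b38367e1a20022321691017015b5c5a5eb9ac8959bc64b78e070804b4a3609b53bbb38c54b89e7d944749777576b2ae7b925048453c4ebaa67c963e4a0b030ca1a09f287071828183377f80120614226a6b1b051e318b6d11876e30b58d25a41979997ab624ab0db173742b2a68673226662c786c72

/-- the elements of `H` needed to check it -/
def SY' : ℕ :=
  0x131a070a170319090a13170909010d061a19101010090d01191a061313130d09011a06190602060206060602061f1f1d1f1d1f1f1f1d121212121212131a1f131313161415040404161415131a051416151a130e1111110b1f070c000800120c040c131f070b070b0f080c00090d011a0e02121212090d011a0e020c0c0c160d011a0e021c18171010101417141313131417141c1c1714141717181c180d1f0e0d12161d0d16040e12041f0718040e1d121f181603001c181318000b1f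

/-- permutation of the cosets -/
def PT : ℕ :=
  0xbcbbb7b8b9bab3b4b5b6b2b19897969594939291908f8e8d8c8b8a898887868584838281b0afaeadacabaaa9a8a7a6a5a4a3a2a1a09f9e9d9c9b9a996867666564636261605f5e5d5c5b5a595857565554535251807f7e7d7c7b7a797877767574737271706f6e6d6c6b6a694a443e49473b504d484c413d4f403a46433f4e453c4b4239322c26312f233835303429253728222e2b27362d24332a2113121110171615140f1c1b1a19201f1e1d180d0e0c0b0a09050607080403020100

/-- the elements of `H` needed to check it -/
def ST : ℕ :=
  0x1515151515151515151505051515151515151515151515151515151515151515151515151515151515151515151515151515151515151515151515151515151515151515151515151515151515151515151515151515151515151515151515151515151515151515151515150505050505050505050505050505050505050505050505050505050505050505050505050505050505050505050505051111111111111111111111111111111111111111111111111515151515110e0511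

/-- permutation of the cosets -/
def PT' : ℕ :=
  0xbcbbbab9b8b7b6b5b4b3b2b1a3a4a2a6a7a5a0a19facadabafb0aea9aaa89a9b999d9e9c8b8c8a8e8f8d88898794959397989691929082838185868473747276777570716f7c7d7b7f807e797a786a6b696d6e6c5b5c5a5e5f5d58595764656367686661626052535155565443444246474540413f4c4d4b4f504e494a483a3b393d3e3c2b2c2a2e2f2d28292734353337383631323022232125262412131011161714150f1b1c191a1f201d1e180d0e090a0b0c080706050403020100

/-- the elements of `H` needed to check it -/
def ST' : ℕ :=
  0x101010101010101010101010101010101010101010101010101010101010101010101010101010101010101010101010101010101010101010101010101010101010101010101010101010101010101010101010101010101010101010101010101010101010101010101010101010101010101010101010101010101010101010101010101010101010101010101010101010101010101010101010101010101010101010101010141414141114151515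

/-- the points to start with -/
def start : List ℕ := [4, 132, 147, 57, 185, 137, 96, 2, 18, 65]

/-- the steps -/
def steps : List (List Bool × ℕ) :=
  [([false, false, true, false], 166), ([true, false, false, true, true], 28), ([false, true, false, true, false,
    true, false, false], 30), ([false, true, false, true, false, true, false, false], 143), ([true, false, false],
    16), ([false, true, false, true, true, false], 26), ([true, true, false, false, true, false], 123), ([false, true,
    true, false, false, true, true], 31), ([false, true, false, false, true, true, false], 109), ([true, true, false,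
    true, true, false, false], 119), ([true, false, true, false, true, false, false], 25), ([true, false, true, false,
    true, false, false], 89), ([true, false, true, true, false, false, true, false], 121), ([false, false, true,
    false, true, false, true, false, false], 94), ([true], 16), ([true], 116), ([true, false], 30), ([true, false],
    85), ([false, false], 46), ([true, false, true, true], 28), ([true, false, true, true], 141), ([false, false,
    true, true], 115), ([true, true, false, false], 73), ([true, true, false, false], 170), ([false, true, false,
    false], 28), ([false, true, false, false], 97), ([false, true, false, false], 141), ([true, false, false, true,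
    true], 162), ([false, false, true, true, false], 54), ([false, false, true, true, false], 108), ([false, false,
    true, true, false], 128), ([false, false, true, true, false], 165), ([true, false, true, false, false], 166),
    ([false, false, true, false, false], 142), ([true, false, true, false, true, true], 26), ([true, false, true,
    false, true, true], 86), ([true, false, true, false, true, true], 114), ([true, true, false, false, true, true],
    28), ([true, true, false, false, true, true], 88), ([true, true, false, false, true, true], 141), ([false, true,
    false, false, true, true], 34), ([false, true, false, false, true, true], 91), ([false, true, false, false, true,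
    true], 105), ([true, true, false, true, true, false], 21), ([true, true, false, true, true, false], 90), ([false,
    true, false, true, true, false], 114), ([true, false, false, true, true, false], 31), ([true, false, false, true,
    true, false], 67), ([true, false, false, true, true, false], 135), ([true, false, false, true, true, false], 164),
    ([true, true, false, false, true, false], 38), ([false, false, true, true, false, false], 37), ([true, true,
    false, true, false, false], 49), ([true, true, false, true, false, false], 101), ([true, true, false, true, false,
    false], 122), ([false, true, false, true, false, false], 22), ([false, true, false, true, false, false], 69),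
    ([false, true, false, true, false, false], 89), ([false, true, false, true, false, false], 133), ([false, true,
    false, true, false, false], 134), ([false, true, false, true, false, false], 141), ([false, true, false, true,
    false, false], 167), ([false, true, true, false, false, true, true], 67), ([false, true, true, false, false, true,
    true], 133), ([false, true, true, false, false, true, true], 135), ([false, true, true, false, false, true, true],
    164), ([false, true, true, false, false, true, true], 174), ([true, false, true, false, false, true, true], 66),
    ([true, false, true, false, false, true, true], 129), ([true, false, true, false, false, true, true], 163),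
    ([false, false, true, false, false, true, true], 61), ([false, false, true, false, false, true, true], 143),
    ([false, false, true, false, false, true, true], 158), ([false, true, true, false, true, true, false], 54),
    ([false, true, true, false, true, true, false], 66), ([false, true, true, false, true, true, false], 67), ([false,
    true, true, false, true, true, false], 84), ([false, true, true, false, true, true, false], 128), ([false, true,
    true, false, true, true, false], 129), ([false, true, true, false, true, true, false], 135), ([false, true, true,
    false, true, true, false], 163), ([false, true, true, false, true, true, false], 164), ([true, true, false, false,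
    true, true, false], 67), ([true, true, false, false, true, true, false], 135), ([true, true, false, false, true,
    true, false], 164), ([false, true, false, false, true, true, false], 65), ([false, true, false, false, true, true,
    false], 128), ([false, true, false, false, true, true, false], 142), ([false, true, false, false, true, true,
    false], 160), ([false, true, true, false, false, true, false], 62), ([false, true, true, false, false, true,
    false], 65), ([false, true, true, false, false, true, false], 142), ([false, true, true, false, false, true,
    false], 152), ([false, true, true, false, false, true, false], 156), ([false, true, true, false, false, true,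
    false], 160), ([false, true, false, true, true, false, false], 65), ([false, true, false, true, true, false,
    false], 142), ([false, true, false, true, true, false, false], 160), ([true, false, false, true, true, false,
    false], 38), ([true, false, false, true, true, false, false], 56), ([true, false, false, true, true, false,
    false], 80), ([true, false, false, true, true, false, false], 96), ([true, false, false, true, true, false,
    false], 104), ([true, false, false, true, true, false, false], 108), ([true, false, false, true, true, false,
    false], 127), ([true, false, false, true, true, false, false], 144), ([true, false, false, true, true, false,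
    false], 175), ([false, true, true, false, true, false, false], 40), ([false, true, true, false, true, false,
    false], 45), ([false, true, true, false, true, false, false], 75), ([false, true, true, false, true, false,
    false], 86), ([false, true, true, false, true, false, false], 92), ([false, true, true, false, true, false,
    false], 111), ([false, true, true, false, true, false, false], 119), ([false, true, true, false, true, false,
    false], 130), ([false, true, true, false, true, false, false], 172), ([true, false, true, false, true, false,
    false], 38), ([true, false, true, false, true, false, false], 43), ([true, false, true, false, true, false,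
    false], 45), ([true, false, true, false, true, false, false], 53), ([true, false, true, false, true, false,
    false], 59), ([true, false, true, false, true, false, false], 70), ([true, false, true, false, true, false,
    false], 86), ([true, false, true, false, true, false, false], 87), ([true, false, true, false, true, false,
    false], 98), ([true, false, true, false, true, false, false], 104), ([true, false, true, false, true, false,
    false], 108), ([true, false, true, false, true, false, false], 116), ([true, false, true, false, true, false,
    false], 119), ([true, false, true, false, true, false, false], 125), ([true, false, true, false, true, false,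
    false], 136), ([true, false, true, false, true, false, false], 148), ([true, false, true, false, true, false,
    false], 154), ([true, false, true, false, true, false, false], 166), ([false, false, true, false, true, false,
    false], 37), ([false, false, true, false, true, false, false], 40), ([false, false, true, false, true, false,
    false], 42), ([false, false, true, false, true, false, false], 75), ([false, false, true, false, true, false,
    false], 78), ([false, false, true, false, true, false, false], 81), ([false, false, true, false, true, false,
    false], 92), ([false, false, true, false, true, false, false], 95), ([false, false, true, false, true, false,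
    false], 110), ([false, false, true, false, true, false, false], 111), ([false, false, true, false, true, false,
    false], 115), ([false, false, true, false, true, false, false], 130), ([false, false, true, false, true, false,
    false], 132), ([false, false, true, false, true, false, false], 172), ([false, false, true, false, true, false,
    false], 176), ([false, true, false, false, true, false, false], 41), ([false, true, false, false, true, false,
    false], 54), ([false, true, false, false, true, false, false], 67), ([false, true, false, false, true, false,
    false], 84), ([false, true, false, false, true, false, false], 94), ([false, true, false, false, true, false,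
    false], 112), ([false, true, false, false, true, false, false], 128), ([false, true, false, false, true, false,
    false], 135), ([false, true, false, false, true, false, false], 164), ([true, false, true, true, false, false,
    true, true], 59), ([true, false, true, true, false, false, true, true], 148), ([true, false, true, true, false,
    false, true, true], 154), ([true, false, true, true, false, false, true, false], 40), ([true, false, true, true,
    false, false, true, false], 61), ([true, false, true, true, false, false, true, false], 77), ([true, false, true,
    true, false, false, true, false], 78), ([true, false, true, true, false, false, true, false], 92), ([true, false,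
    true, true, false, false, true, false], 111), ([true, false, true, true, false, false, true, false], 132), ([true,
    false, true, true, false, false, true, false], 143), ([true, false, true, true, false, false, true, false], 146),
    ([true, false, true, true, false, false, true, false], 158), ([true, false, true, true, false, false, true,
    false], 173), ([true, false, true, true, false, false, true, false], 176), ([false, false, true, true, false,
    false, true, false], 46), ([false, false, true, true, false, false, true, false], 74), ([false, false, true, true,
    false, false, true, false], 88), ([false, false, true, true, false, false, true, false], 118), ([false, false,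
    true, true, false, false, true, false], 151), ([false, false, true, true, false, false, true, false], 168)]

/-- the code of the `i`-th representative -/
def rep (i : ℕ) : ℕ := Nat.mod (Nat.shiftRight RN (Nat.mul 32 i)) 4294967296

/-- table look-up -/
def tb (T i : ℕ) : ℕ := Nat.mod (Nat.shiftRight T (Nat.mul 8 i)) 256

/-- `T` is the permutation of the cosets induced by `c` -/
abbrev Tab (c T Q : ℕ) : Prop :=
  ∀ i < 189, tb T i < 189 ∧ mulc c (rep i) = mulc (rep (tb T i)) (LH.getD (tb Q i) c1)

theorem rep_good : ∀ i < 189, IsGood (dec (rep i)) := by decide +kernel
theorem tab_Y : Tab cY PY SY := by decide +kernel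
theorem tab_Y' : Tab cY' PY' SY' := by decide +kernel
theorem tab_T : Tab cT PT ST := by decide +kernel
theorem tab_T' : Tab cT' PT' ST' := by decide +kernel

/-- action of a word on the cosets -/
def ap : List Bool → ℕ → ℕ
  | [], p => p
  | b :: w, p => tb (cond b PY PY') (ap w p)

/-- the closure procedure -/
def run : List (List Bool × ℕ) → ℕ → ℕ
  | [], m => m
  | s :: l, m => run l (cond (Nat.blt s.2 189 && m.testBit (ap s.1 (tb PT s.2)) && m.testBit (ap s.1 (tb PT' s.2)) &&
      m.testBit (ap s.1 (tb PT (tb PT' s.2)))) (Nat.lor m (Nat.pow 2 (ap s.1 s.2))) m)

/-- a list as a bit mask -/
def msk : List ℕ → ℕ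
  | [] => 0
  | i :: l => Nat.lor (msk l) (Nat.pow 2 i)

theorem run_steps : run steps (msk start) = 2 ^ 189 - 1 := by decide +kernel

theorem testBit_lor_pow {m i j : ℕ} (h : (Nat.lor m (Nat.pow 2 j)).testBit i = true) : m.testBit i = true ∨ i = j := by
  have h1 : (m ||| 2 ^ j).testBit i = true := h
  rw [Nat.testBit_or, Bool.or_eq_true, Nat.testBit_two_pow, decide_eq_true_eq] at h1
  exact h1.imp id Eq.symm

theorem mem_of_msk {i : ℕ} : ∀ {l : List ℕ}, (msk l).testBit i = true → i ∈ l
  | [], h => by
    have h1 : (0 : ℕ).testBit i = true := h
    rw [Nat.zero_testBit] at h1
    exact absurd h1 Bool.false_ne_true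
  | _ :: _, h => (testBit_lor_pow h).elim (fun h1 => List.mem_cons_of_mem _ (mem_of_msk h1))
      fun h1 => h1 ▸ List.mem_cons_self

theorem getD_mem {l : List ℕ} {d : ℕ} (hd : d ∈ l) (k : ℕ) : l.getD k d ∈ l := by
  rw [List.getD_eq_getElem?_getD]
  cases h : l[k]? with
  | none => exact hd
  | some a => exact List.mem_of_getElem? h

variable {V : Type} [AddCommGroup V] [Module (ZMod 2) V] {ρ : Representation (ZMod 2) G V} {v : V}

/-- the points of the orbit -/
noncomputable def pt (ρ : Representation (ZMod 2) G V) (v : V) (i : ℕ) : V := ρ (el (rep i)) v

theorem act (hv : v ∈ fx ρ H) {g : G} {c T Q : ℕ} (r : Rp g c) (h : Tab c T Q) {i : ℕ} (hi : i < 189) :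
    ρ g (pt ρ v i) = pt ρ v (tb T i) := by
  obtain ⟨h1, h2⟩ := h i hi
  have hm := getD_mem LH_one (tb Q i)
  have e := (r.mul (rp_el (rep_good i hi))).eq ((rp_el (rep_good _ h1)).mul (rp_el (LH_good _ hm))) h2
  show ρ g (ρ (el (rep i)) v) = ρ (el (rep (tb T i))) v
  rw [← rho_mul, e, rho_mul, hv _ (el_mem_H hm)]

theorem act_wd (hv : v ∈ fx ρ H) {p : ℕ} (hp : p < 189) : ∀ w : List Bool,
    ap w p < 189 ∧ ρ (wd (· * ·) 1 (el cY) (el cY') w) (pt ρ v p) = pt ρ v (ap w p)
  | [] => ⟨hp, rho_one ρ _⟩
  | true :: w => ⟨(tab_Y _ (act_wd hv hp w).1).1, (rho_mul ρ _ _ _).trans
      ((congrArg _ (act_wd hv hp w).2).trans (act hv rp_Y tab_Y (act_wd hv hp w).1))⟩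
  | false :: w => ⟨(tab_Y' _ (act_wd hv hp w).1).1, (rho_mul ρ _ _ _).trans
      ((congrArg _ (act_wd hv hp w).2).trans (act hv rp_Y' tab_Y' (act_wd hv hp w).1))⟩

theorem rel (hv : v ∈ fx ρ H) (hq : ∀ u, ρ (el cT) (ρ (el cT') u - u) = ρ (el cT') u - u) {p : ℕ} (hp : p < 189)
    (w : List Bool) : pt ρ v (ap w p) =
      pt ρ v (ap w (tb PT p)) + pt ρ v (ap w (tb PT' p)) - pt ρ v (ap w (tb PT (tb PT' p))) := by
  have h1 := (tab_T p hp).1
  have h2 := (tab_T' p hp).1
  have h3 := (tab_T _ h2).1
  have h4 := hq (pt ρ v p)
  rw [act hv rp_T' tab_T' hp, map_sub, act hv rp_T tab_T hp, act hv rp_T tab_T h2] at h4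
  have h5 : pt ρ v p = pt ρ v (tb PT p) + pt ρ v (tb PT' p) - pt ρ v (tb PT (tb PT' p)) := by
    rw [← sub_eq_zero] at h4 ⊢
    rw [← h4]
    abel
  rw [← (act_wd hv hp w).2, ← (act_wd hv h1 w).2, ← (act_wd hv h2 w).2, ← (act_wd hv h3 w).2, ← map_add, ← map_sub,
    ← h5]

theorem run_mem (hv : v ∈ fx ρ H) (hq : ∀ u, ρ (el cT) (ρ (el cT') u - u) = ρ (el cT') u - u)
    {S : Submodule (ZMod 2) V} : ∀ (l : List (List Bool × ℕ)) (m : ℕ), (∀ i, m.testBit i = true → pt ρ v i ∈ S) →
      ∀ i, (run l m).testBit i = true → pt ρ v i ∈ S
  | [], _, h => h
  | s :: l, m, h => by
    refine run_mem hv hq l _ fun i hi => ?_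
    cases hb : (Nat.blt s.2 189 && m.testBit (ap s.1 (tb PT s.2)) && m.testBit (ap s.1 (tb PT' s.2)) &&
      m.testBit (ap s.1 (tb PT (tb PT' s.2)))) with
    | false =>
      rw [hb] at hi
      exact h i hi
    | true =>
      rw [hb] at hi
      rcases testBit_lor_pow hi with h1 | h1
      · exact h i h1
      · simp only [Bool.and_eq_true, Nat.blt_eq] at hb
        rw [h1, rel hv hq hb.1.1.1]
        exact S.sub_mem (S.add_mem (h _ hb.1.1.2) (h _ hb.1.2)) (h _ hb.2)

/-- the bound -/
theorem finrank_le_ten [Finite G] [FiniteDimensional (ZMod 2) V] (hi : Irr ρ ⊤)
    (hq : ∀ u, ρ (el cT) (ρ (el cT') u - u) = ρ (el cT') u - u) : finrank (ZMod 2) V ≤ 10 := by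
  classical
  by_cases h0 : (⊤ : Submodule (ZMod 2) V) = ⊥
  · rw [← finrank_top, h0, finrank_bot]
    exact Nat.zero_le _
  obtain ⟨v, hv, v0⟩ := (Submodule.ne_bot_iff _).1 (inf_fx_ne_bot (ρ := ρ) isPGroup_H (inv_top H) h0)
  have hv' : v ∈ fx ρ H := hv.2
  let S : Submodule (ZMod 2) V := Submodule.span (ZMod 2) ((start.map (pt ρ v)).toFinset : Set V)
  have h1 : ∀ i < 189, pt ρ v i ∈ S := fun i h => by
    refine run_mem hv' hq steps (msk start) (fun j hj => Submodule.subset_span ?_) i ?_
    · exact Finset.mem_coe.2 (List.mem_toFinset.2 (List.mem_map_of_mem (mem_of_msk hj)))
    · rw [run_steps, Nat.testBit_two_pow_sub_one, decide_eq_true_eq]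
      exact h
  have h2 : ∀ {g : G} {c T Q : ℕ}, Rp g c → Tab c T Q → ∀ u ∈ S, ρ g u ∈ S := fun {g c T Q} r t u hu => by
    refine (Submodule.span_le (p := S.comap (ρ g))).2 (fun x hx => ?_) hu
    obtain ⟨i, hi, rfl⟩ := List.mem_map.1 (List.mem_toFinset.1 (Finset.mem_coe.1 hx))
    have h3 : i < 189 := (by decide : ∀ i ∈ start, i < 189) i hi
    show ρ g (pt ρ v i) ∈ S
    rw [act hv' r t h3]
    exact h1 _ (t i h3).1
  have h3 : ∀ {g : G}, g ^ 3 = 1 → (∀ u ∈ S, ρ g u ∈ S) → g ∈ nrm ρ S := fun {g} g3 h => by
    refine le_nrm_iff.2 (inv_closure (S := {g}) ?_) (Subgroup.subset_closure rfl)
    rintro _ rfl u hu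
    refine ⟨h u hu, ?_⟩
    rw [pow_succ, pow_two] at g3
    rw [← eq_inv_of_mul_eq_one_left g3, rho_mul]
    exact h _ (h u hu)
  have h4 : nrm ρ S = ⊤ := eq_top_of_mem (h3 Y_cube (h2 rp_Y tab_Y)) (h3 Y'_cube (h2 rp_Y' tab_Y'))
  rcases hi S (le_nrm_iff.1 h4.ge) with h5 | h5
  · have h6 := h1 0 (by norm_num)
    rw [h5, Submodule.mem_bot] at h6
    exact (v0 (rho_injective ρ _ (h6.trans (map_zero _).symm))).elim
  · rw [← finrank_top, ← h5]
    exact (finrank_span_finset_le_card _).trans ((List.toFinset_card_le _).trans (by rw [List.length_map]; decide))

end Cfsg.Agent.TwoF.XL.U33
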